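import Groth.Agent.AlgSp.K37.LinWeil
import Groth.Agent.AlgSp.K642.WeilCl

/-!
# Weil restriction of closed subschemes of `V(E)` along a proper flat morphism

Affine base, tested on affine schemes.
-/

set_option autoImplicit false
universe u

open CategoryTheory CategoryTheory.Limits AlgebraicGeometry Opposite TopologicalSpace

noncomputable section

namespace K37.ClWeil

open K37.AffWeil Groth.Agent.Sga3A.H781.RepIdeal

variable {X S : Scheme.{u}} (f : X ⟶ S)

theorem ker_comap_eq_bot_iff {P Q Y : Scheme.{u}} (j : Y ⟶ P) [IsClosedImmersion j] (q : Q ⟶ P) :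
    j.ker.comap q = ⊥ ↔ ∃ m : Q ⟶ Y, m ≫ j = q := by
  rw [comap_eq_bot_iff]
  constructor
  · intro h
    exact ⟨IsClosedImmersion.lift j q h, IsClosedImmersion.lift_fac _ _ _⟩
  · rintro ⟨m, rfl⟩
    exact Scheme.Hom.le_ker_comp _ _

/-- Closed Weil restriction, abstractly: from a Weil restriction of `V` to one of a closed subscheme `Y` of `V`. -/
theorem exists_closed {V Y Z : Scheme.{u}} (π : V ⟶ X) (i : Y ⟶ V) [IsClosedImmersion i] [IsProper f] [Flat f]
    [LocallyOfFinitePresentation f] (z : Z ⟶ S) (gZ : pullback f z ⟶ V) (hgZ : gZ ≫ π = pullback.fst f z)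
    (H : ∀ (T : Scheme.{u}) [IsAffine T] (t : T ⟶ S) (g : pullback f t ⟶ V), g ≫ π = pullback.fst f t →
        ∃! τ : T ⟶ Z, ∃ h : τ ≫ z = t, bc f τ h ≫ gZ = g) :
    ∃ (R : Scheme.{u}) (κ : R ⟶ Z) (gR : pullback f (κ ≫ z) ⟶ Y), IsClosedImmersion κ ∧
      gR ≫ i ≫ π = pullback.fst f (κ ≫ z) ∧
      ∀ (T : Scheme.{u}) [IsAffine T] (t : T ⟶ S) (g : pullback f t ⟶ Y), g ≫ i ≫ π = pullback.fst f t →
        ∃! τ : T ⟶ R, ∃ h : τ ≫ κ ≫ z = t, bc f τ h ≫ gR = g := by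
  let fZ := pullback.snd f z
  let jZ := pullback.fst gZ i
  obtain ⟨K, hK⟩ := K642.WeilCl.exists_isRep fZ jZ
  -- the condition
  have key : ∀ {W : Scheme.{u}} (a : W ⟶ Z) (w : W ⟶ S) (h : a ≫ z = w), K ≤ a.ker ↔
      ∃ m : pullback f w ⟶ Y, m ≫ i = bc f a h ≫ gZ := by
    intro W a w h
    rw [← comap_eq_bot_iff, hK W a, Category.comp_id, Van, ker_comap_eq_bot_iff]
    have sq : IsPullback (bc f a h) (pullback.snd f w) fZ a := by
      refine IsPullback.of_right (t := IsPullback.of_hasPullback f z) ?_ (bc_snd f a h)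
      rw [bc_fst, h]
      exact IsPullback.of_hasPullback f w
    let e : pullback f w ≅ pullback fZ a := sq.isoPullback
    have he : e.hom ≫ pullback.fst fZ a = bc f a h := sq.isoPullback_hom_fst
    constructor
    · rintro ⟨m, hm⟩
      refine ⟨e.hom ≫ m ≫ pullback.snd gZ i, ?_⟩
      rw [Category.assoc, Category.assoc, ← pullback.condition, ← he, Category.assoc, ← hm, Category.assoc]
    · rintro ⟨m, hm⟩
      refine ⟨e.inv ≫ pullback.lift (bc f a h) m hm.symm, ?_⟩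
      rw [Category.assoc, pullback.lift_fst, ← he, Iso.inv_hom_id_assoc]
  let κ := K.subschemeι
  have hκ : K ≤ κ.ker := by rw [Scheme.IdealSheafData.ker_subschemeι]
  obtain ⟨gR, hgR⟩ := (key κ (κ ≫ z) rfl).1 hκ
  refine ⟨K.subscheme, κ, gR, inferInstance, ?_, ?_⟩
  · rw [← Category.assoc, hgR, Category.assoc, hgZ, bc_fst]
  · intro T _ t g hg
    obtain ⟨τ, ⟨h1, h2⟩, h3⟩ := H T t (g ≫ i) (by rw [Category.assoc, hg])
    have h4 : κ.ker ≤ τ.ker := by
      rw [Scheme.IdealSheafData.ker_subschemeι]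
      exact (key τ t h1).2 ⟨g, h2.symm⟩
    let τ' := IsClosedImmersion.lift κ τ h4
    have hτ' : τ' ≫ κ = τ := IsClosedImmersion.lift_fac _ _ _
    have h5 : ∀ (σ : T ⟶ K.subscheme) (h : σ ≫ κ ≫ z = t) (h' : (σ ≫ κ) ≫ z = t),
        (bc f σ h ≫ gR) ≫ i = bc f (σ ≫ κ) h' ≫ gZ := by
      intro σ h h'
      rw [Category.assoc, hgR, ← Category.assoc, bc_comp]
    have ht : τ' ≫ κ ≫ z = t := by rw [← Category.assoc, hτ', h1]
    refine ⟨τ', ⟨ht, ?_⟩, ?_⟩
    · rw [← cancel_mono i, h5 τ' ht (by rw [hτ', h1])]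
      have h6 : ∀ (σ : T ⟶ Z) (hσ : σ = τ) (h' : σ ≫ z = t), bc f σ h' ≫ gZ = g ≫ i := by
        rintro _ rfl _
        exact h2
      exact h6 _ hτ' _
    · rintro σ ⟨ha, hb⟩
      rw [← cancel_mono κ, hτ']
      refine h3 (σ ≫ κ) ⟨by rw [Category.assoc, ha], ?_⟩
      rw [← h5 σ ha (by rw [Category.assoc, ha]), hb]

end K37.ClWeil
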