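import Groth.Agent.AlgSp.K37.VPoint
import Groth.Agent.ModSt.K599.RepMain
import Groth.Agent.PerfB.StructFlat
import Groth.Agent.FGA.K37.AffWeil

/-!
# Weil restriction of `V(E)` along a proper flat morphism

Affine base, tested on affine schemes.
-/

set_option autoImplicit false
universe u

open CategoryTheory CategoryTheory.Limits AlgebraicGeometry Opposite TopologicalSpace

noncomputable section

namespace K37.LinWeil

open K599.LMod K599.Rep K37.VPoint K37.AffWeil

variable {X S : Scheme.{u}} (f : X ⟶ S) {E : X.Modules} {A : RelSpec.QCAlg X} {j : E ⟶ A.toModule}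

variable (j) in
/-- The family attached to a morphism to `V(E)`. -/
def ptOf {T : Scheme.{u}} (t : T ⟶ S) (g : pullback f t ⟶ A.spec) (hg : g ≫ A.π = pullback.fst f t) :
    Pt f E (Coh.structureModule X) t :=
  ⟨SO (pullback f t), um (pullback.fst f t), pullback.snd f t, IsPullback.of_hasPullback f t, cart_um _,
    um g ≫ univ j, hg⟩

/-- Restriction of families in terms of morphisms. -/
theorem rel_iff (hE : Coh.IsQCoh E) (hA : RelSpec.IsSymAlg E A j) {T T' : Scheme.{u}} {t : T ⟶ S} {t' : T' ⟶ S}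
    (g : pullback f t ⟶ A.spec) (hg : g ≫ A.π = pullback.fst f t) (g' : pullback f t' ⟶ A.spec)
    (hg' : g' ≫ A.π = pullback.fst f t') (τ : T' ⟶ T) (h : τ ≫ t = t') :
    (ptOf f j t g hg).Rel (ptOf f j t' g' hg') τ ↔ bc f τ h ≫ g = g' := by
  have h1 : um (bc f τ h) ≫ um (pullback.fst f t) = um (pullback.fst f t') := by
    rw [um_comp, bc_fst]
  constructor
  · intro hr
    have h2 := hr.unique_beta (um (bc f τ h)) h1 (bc_snd f τ h)
    change um (bc f τ h) ≫ um g ≫ univ j = um g' ≫ univ j at h2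
    rw [← Category.assoc, um_comp] at h2
    exact um_univ_injective hE hA h2
  · rintro rfl
    refine ⟨um (bc f τ h), h1, bc_snd f τ h, ?_⟩
    change um (bc f τ h) ≫ um g ≫ univ j = um (bc f τ h ≫ g) ≫ univ j
    rw [← Category.assoc, um_comp]

/-- The universal morphism to `V(E)`. -/
theorem exists_lin [IsAffine S] [IsProper f] [Flat f] [LocallyOfFinitePresentation f] (hE' : CohB1.IsFP E)
    (hE : Coh.IsQCoh E) (hA : RelSpec.IsSymAlg E A j) :
    ∃ (Z : Scheme.{u}) (z : Z ⟶ S) (gZ : pullback f z ⟶ A.spec), IsAffineHom z ∧ LocallyOfFinitePresentation z ∧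
      gZ ≫ A.π = pullback.fst f z ∧
      ∀ (T : Scheme.{u}) [IsAffine T] (t : T ⟶ S) (g : pullback f t ⟶ A.spec), g ≫ A.π = pullback.fst f t →
        ∃! τ : T ⟶ Z, ∃ h : τ ≫ z = t, bc f τ h ≫ gZ = g := by
  obtain ⟨R, h1, h2⟩ := K599.RepMain.exists_homRep f E (Coh.structureModule X) hE'
    Groth.Agent.PerfB.StructFlat.isFP_structure (Groth.Agent.PerfB.StructFlat.isFlatOver_structure f)
  obtain ⟨χ, h', hrel⟩ := R.pt.exists_restrict (𝟙 R.Z) (Category.id_comp R.z) (um (pullback.fst f R.z))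
    (IsPullback.of_hasPullback f R.z) (cart_um _)
  obtain ⟨gZ, hgZ⟩ := exists_um_univ hE hA χ
  subst hgZ
  have hgZ : gZ ≫ A.π = pullback.fst f R.z := h'
  have hrel' : R.pt.Rel (ptOf f j R.z gZ hgZ) (𝟙 R.Z) := hrel
  refine ⟨R.Z, R.z, gZ, h1, h2, hgZ, fun T _ t g hg => ?_⟩
  have key : ∀ (τ : T ⟶ R.Z) (h : τ ≫ R.z = t), R.pt.Rel (ptOf f j t g hg) τ ↔ bc f τ h ≫ gZ = g := by
    intro τ h
    rw [← rel_iff f hE hA gZ hgZ g hg τ h]
    constructor
    · intro hr
      refine hrel'.of_comp ?_ (Category.id_comp _) h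
      rwa [Category.comp_id]
    · intro hr
      have := hrel'.comp hr
      rwa [Category.comp_id] at this
  obtain ⟨τ, ⟨ha, hb⟩, hc⟩ := R.univ_affine (ptOf f j t g hg)
  refine ⟨τ, ⟨ha, (key τ ha).1 hb⟩, ?_⟩
  rintro τ' ⟨h3, h4⟩
  exact hc τ' ⟨h3, (key τ' h3).2 h4⟩

end K37.LinWeil
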