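import Groth.Agent.ModSt.K599.LMod
import Groth.Agent.SDiv.K475.SecPull
import Groth.Agent.Cyc.K305.VBPt
import Groth.Agent.CohqB.AlgMod

/-!
# Points of `V(E)` as homomorphisms of modules

For `a : P ⟶ X` the morphisms `g : P ⟶ V(E)` over `X` correspond to the homomorphisms `E ⟶ a_* O_P`, i.e. to the
morphisms `(P, O_P) ⟶ (X, E)` of `LObj` over `a`.
-/

set_option autoImplicit false
universe u

open CategoryTheory CategoryTheory.Limits AlgebraicGeometry Opposite TopologicalSpace

noncomputable section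

namespace K37.VPoint

open K599.LMod K927.ModSt K305.VBPt K305.VBBC K36.QSpec K36.SymAlg Groth.Agent.Fdesc.LocGen ModSt

variable {X P Q : Scheme.{u}}

/-- The scheme with its structure sheaf. -/
abbrev SO (P : Scheme.{u}) : LObj.{u} := ⟨P, Coh.structureModule P⟩

/-- The comparison of structure sheaves. -/
def um (a : P ⟶ X) : SO P ⟶ SO X :=
  ⟨a, SheafOfModules.unitToPushforwardObjUnit a.toRingCatSheafHom⟩

@[simp] theorem um_top (a : P ⟶ X) : (um a).top = a := rfl

theorem um_app (a : P ⟶ X) (U : X.Opens) (x : Γ(X, U)) : (um a).c.app U x = a.app U x := rfl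

theorem cart_um (a : P ⟶ X) : Cart (um a) := by
  have h := K475.SecPull.homEquiv_pullbackStructureIso a
  have h1 := isCart_compIso (isCart_unit a (Coh.structureModule X)) (PicLoc.pullbackStructureIso a)
  rw [Adjunction.homEquiv_unit] at h
  change IsCart a (SheafOfModules.unitToPushforwardObjUnit a.toRingCatSheafHom)
  rw [← h]
  exact h1

theorem um_comp (b : Q ⟶ P) (a : P ⟶ X) : um b ≫ um a = um (b ≫ a) := by
  apply LObj.Hom.ext' rfl
  intro U x
  rfl

section val

variable {E : X.Modules}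

/-- The map on sections given by a morphism `(P, O_P) ⟶ (X, E)`. -/
def val (χ : SO P ⟶ ⟨X, E⟩) {a : P ⟶ X} (h : χ.top = a) (U : X.Opens) (e : Γ(E, U)) : Γ(P, a ⁻¹ᵁ U) :=
  P.presheaf.map (eqToHom (congrArg (fun b : P ⟶ X => b ⁻¹ᵁ U) h.symm)).op (χ.c.app U e)

theorem val_rfl (χ : SO P ⟶ ⟨X, E⟩) (U : X.Opens) (e : Γ(E, U)) : val χ rfl U e = χ.c.app U e := by
  rw [val]
  change P.presheaf.map (𝟙 _) _ = _
  rw [CategoryTheory.Functor.map_id]
  rfl

theorem ext_val {χ χ' : SO P ⟶ ⟨X, E⟩} {a : P ⟶ X} (h : χ.top = a) (h' : χ'.top = a)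
    (H : ∀ (U : X.Opens), IsAffineOpen U → ∀ e : Γ(E, U), val χ h U e = val χ' h' U e) : χ = χ' := by
  obtain ⟨t, c⟩ := χ
  obtain ⟨t', c'⟩ := χ'
  change t = a at h
  change t' = a at h'
  subst h
  subst h'
  have hcc : c = c' := by
    refine Groth.Agent.CohqB.AlgMod.hom_ext_affine fun U hU e => ?_
    have h1 := H U hU e
    rw [val_rfl, val_rfl] at h1
    exact h1
  rw [hcc]

end val

section V

variable {E : X.Modules} {A : RelSpec.QCAlg X} {j : E ⟶ A.toModule}

variable (j) in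
theorem univ_smul (U : X.Opens) (r : Γ(X, U)) (e : Γ(E, U)) : (thetaApp A U).hom (jApp E A j U (r • e)) =
    (A.π.app U).hom r * (thetaApp A U).hom (jApp E A j U e) := by
  rw [jApp_smul, map_mul]
  congr 1
  exact congr(($(str_thetaApp A U)).hom r)

variable (j) in
/-- The universal homomorphism `E ⟶ π_* O_{V(E)}`. -/
def univ : SO A.spec ⟶ ⟨X, E⟩ where
  top := A.π
  c := ⟨PresheafOfModules.homMk
    { app := fun U => AddCommGrpCat.ofHom
        ((thetaApp A U.unop).hom.toAddMonoidHom.comp (jApp E A j U.unop) : Γ(E, U.unop) →+ Γ(A.spec, A.π ⁻¹ᵁ U.unop))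
      naturality := fun U V i => by
        ext e
        have h1 := jApp_res E A j (leOfHom i.unop) e
        have h2 := congr(($(thetaApp_res A (leOfHom i.unop))).hom (jApp E A j U.unop e))
        change (thetaApp A V.unop).hom (jApp E A j V.unop (E.presheaf.map i e)) =
          A.spec.presheaf.map (homOfLE (A.π.preimage_mono (leOfHom i.unop))).op
            ((thetaApp A U.unop).hom (jApp E A j U.unop e))
        exact (congrArg (thetaApp A V.unop).hom h1).trans h2 }
    (fun U r e => univ_smul j U.unop r e)⟩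

theorem univ_app (U : X.Opens) (e : Γ(E, U)) : (univ j).c.app U e = thetaApp A U (jApp E A j U e) := rfl

theorem val_um_univ {a : P ⟶ X} (g : P ⟶ A.spec) (hf : g ≫ A.π = a) (h : (um g ≫ univ j).top = a) (U : X.Opens)
    (e : Γ(E, U)) : val (um g ≫ univ j) h U e = fn g hf U (jApp E A j U e) := by
  subst hf
  refine (val_rfl (um g ≫ univ j) U e).trans ?_
  change (g.app (A.π ⁻¹ᵁ U)).hom ((thetaApp A U).hom (jApp E A j U e)) =
    (g.appLE (A.π ⁻¹ᵁ U) (g ⁻¹ᵁ (A.π ⁻¹ᵁ U)) le_rfl).hom ((thetaApp A U).hom (jApp E A j U e))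
  rw [← Scheme.Hom.app_eq_appLE]

theorem um_univ_injective (hE : Coh.IsQCoh E) (hA : RelSpec.IsSymAlg E A j) {g g' : P ⟶ A.spec}
    (h : um g ≫ univ j = um g' ≫ univ j) : g = g' := by
  have h1 : g ≫ A.π = g' ≫ A.π := congrArg LObj.Hom.top h
  refine K305.VBPt.ext hE hA h1 rfl fun U hU e => ?_
  rw [← val_um_univ g h1 h1, ← val_um_univ g' rfl rfl]
  congr 1

theorem exists_um_univ (hE : Coh.IsQCoh E) (hA : RelSpec.IsSymAlg E A j) (χ : SO P ⟶ ⟨X, E⟩) :
    ∃ g : P ⟶ A.spec, um g ≫ univ j = χ := by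
  obtain ⟨g, hf, hg⟩ := K305.VBPt.exists_pt (A := A) (j := j) hE hA χ.top (fun U => (χ.c.app U).hom)
    (fun U r e => Scheme.Modules.Hom.app_smul χ.c r e) (fun {U V} h e => Groth.Agent.Sga67.Sec.appS_res χ.c h e)
  refine ⟨g, ext_val (a := χ.top) hf rfl fun U hU e => ?_⟩
  rw [val_um_univ g hf hf, hg U hU, val_rfl]
  rfl

end V

end K37.VPoint
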