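import Groth.Agent.AlgSp.K37.ClWeil
import Groth.Agent.FGA.K37.WeilConv
import Groth.Agent.CGrpSh3.K983.UnitsRep
import Groth.Agent.WeilRes.K933.WRBase
import Groth.Agent.Sga1.PushFun
import Groth.Agent.ASBun.K790.Invar
import Groth.Agent.EGA2.K36.AffEmb

/-!
# Weil restriction along proper flat morphisms of affine schemes of finite type

`S` locally Noetherian, `f : X ⟶ S` proper and flat, `y : Y ⟶ X` affine and locally of finite type: the Weil
restriction of `Y` along `f` is representable by an affine `S`-scheme, locally of finite type.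
-/

set_option autoImplicit false
universe u

open CategoryTheory CategoryTheory.Limits AlgebraicGeometry Opposite TopologicalSpace

namespace K37.WeilPF

open K37.AffWeil K37.WeilConv

/-- Affine Noetherian base. -/
theorem exists_weilRes_affine {X S Y : Scheme.{u}} (f : X ⟶ S) [IsProper f] [Flat f] [IsLocallyNoetherian S]
    (y : Y ⟶ X) [IsAffine S] [IsAffineHom y] [LocallyOfFiniteType y] :
    ∃ (R : Over S) (q : Red.bc f R ⟶ Over.mk y), IsAffineHom R.hom ∧ LocallyOfFiniteType R.hom ∧
      WeilRes.IsWeilRes f (Over.mk y) R q := by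
  have hX : IsLocallyNoetherian X := LocallyOfFiniteType.isLocallyNoetherian f
  have hXc : CompactSpace X := QuasiCompact.compactSpace_of_compactSpace f
  have hXn : IsNoetherian X := {}
  have hfp : LocallyOfFinitePresentation f := inferInstance
  obtain ⟨E, hE, A, j, hA, i, hi, hiA⟩ := K36.AffEmb.exists_embedding y
  obtain ⟨Z, z, gZ, h1, h2, h3, h4⟩ := LinWeil.exists_lin f (K790.Invar.isFP_of_isCoh hE) hE.1 hA
  obtain ⟨R, κ, gR, hκ, hgR, hR⟩ := ClWeil.exists_closed f A.π i z gZ h3 h4
  rw [hiA] at hgR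
  refine ⟨Over.mk (κ ≫ z), ofG f y (T := Over.mk (κ ≫ z)) gR hgR, ?_, ?_, ?_⟩
  · change IsAffineHom (κ ≫ z)
    infer_instance
  · change LocallyOfFiniteType (κ ≫ z)
    infer_instance
  refine K983.UnitsRep.isWeilRes_of_affine f _ fun A t => ?_
  constructor
  · intro g₁ g₂ h
    have h' := congrArg (toG f y) h
    rw [toG_restr, toG_restr, toG_ofG] at h'
    apply Over.OverMorphism.ext
    obtain ⟨τ, -, hτ⟩ := hR (Spec A) t (bc f g₁.left (Over.w g₁) ≫ gR) (by
      rw [Category.assoc, hiA, hgR]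
      exact bc_fst f _ _)
    rw [hτ g₁.left ⟨Over.w g₁, rfl⟩, hτ g₂.left ⟨Over.w g₂, h'.symm⟩]
  · intro x
    obtain ⟨τ, ⟨hτ, hτ'⟩, -⟩ := hR (Spec A) t (toG f y x) (by rw [hiA]; exact toG_comp f y x)
    refine ⟨Over.homMk τ hτ, toG_injective f y ?_⟩
    rw [toG_restr, toG_ofG]
    exact hτ'

/-- **Weil restriction along a proper flat morphism** of an affine scheme of finite type. -/
theorem exists_weilRes {X S Y : Scheme.{u}} (f : X ⟶ S) [IsProper f] [Flat f] [IsLocallyNoetherian S]
    (y : Y ⟶ X) [IsAffineHom y] [LocallyOfFiniteType y] :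
    ∃ (R : Over S) (q : Red.bc f R ⟶ Over.mk y), IsAffineHom R.hom ∧ LocallyOfFiniteType R.hom ∧
      WeilRes.IsWeilRes f (Over.mk y) R q := by
  have key : ∀ W : S.affineOpens, ∃ (U : Over (W.1).toScheme),
      (IsAffineHom U.hom ∧ LocallyOfFiniteType U.hom) ∧
      Nonempty ((Groth.Agent.Desc.SecFunctor.restr (W.1).ι (WeilRes.functor f (Over.mk y))).RepresentableBy U) := by
    intro W
    let v := (W.1).ι
    let v' := pullback.fst f v
    let f' := pullback.snd f v
    have hpb : IsPullback v' f' f v := IsPullback.of_hasPullback f v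
    have hW : IsAffine (W.1).toScheme := W.2
    have hW' : IsLocallyNoetherian (W.1).toScheme := inferInstance
    let y' := ((Over.pullback v').obj (Over.mk y)).hom
    have hy1 : IsAffineHom y' := MorphismProperty.pullback_snd (P := @IsAffineHom) y v' inferInstance
    have hy2 : LocallyOfFiniteType y' :=
      MorphismProperty.pullback_snd (P := @LocallyOfFiniteType) y v' inferInstance
    obtain ⟨U, q, h1, h2, h3⟩ := exists_weilRes_affine f' y'
    exact ⟨U, ⟨h1, h2⟩, ⟨h3.representableBy.ofIso (K933.WRBase.restrictIso hpb.flip (Over.mk y)).symm⟩⟩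
  choose U hP e using key
  obtain ⟨R, hR, ⟨r⟩⟩ := Groth.Agent.Desc.ZarGlue.exists_rep_of_openCover_prop
    (F := WeilRes.functor f (Over.mk y)) (fun W : S.affineOpens => W.1) (fun s => by
      obtain ⟨_, ⟨W, hW, rfl⟩, hs, -⟩ := S.isBasis_affineOpens.exists_subset_of_mem_open (Set.mem_univ s) isOpen_univ
      exact ⟨⟨W, hW⟩, hs⟩) U (fun W => (e W).some)
    (Groth.Agent.Sga1.PushFun.isZarSheaf_push f (Groth.Agent.Sga1.PushFun.isZarSheaf_yoneda _))
    (@IsAffineHom ⊓ @LocallyOfFiniteType) (fun W => hP W)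
  exact ⟨R, r.homEquiv (𝟙 R), hR.1, hR.2, WeilRes.IsWeilRes.of_representableBy r⟩

end K37.WeilPF
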